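import Mathlib
import Cfsg.Agent.Lib.Helper50.HUPT.Defs
import Cfsg.Agent.S3430

set_option autoImplicit false

/-!
HUPT (S3360) package [NUM3]: the arithmetic end game (Feit's theorem, landed as S3430).
-/

namespace Cfsg.Agent.Lib.Helper87.HUPT

open Cfsg.Agent.Lib.Helper50.HUPT

theorem two_pow_ne_six (d : ℕ) : (6 : ℕ) ≠ 2 ^ d := by
  intro hd
  have hlt : d < 3 := by
    by_contra h
    have h1 : 2 ^ 3 ≤ 2 ^ d := Nat.pow_le_pow_right (by norm_num) (by omega)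
    omega
  interval_cases d <;> omega

theorem ppd_2_4 : PPD 2 4 5 := by
  refine ⟨by norm_num, by norm_num, ?_⟩
  intro j h1 h2
  interval_cases j <;> norm_num

theorem ppd_2_10 : PPD 2 10 11 := by
  refine ⟨by norm_num, by norm_num, ?_⟩
  intro j h1 h2
  interval_cases j <;> norm_num

theorem ppd_2_12 : PPD 2 12 13 := by
  refine ⟨by norm_num, by norm_num, ?_⟩
  intro j h1 h2
  interval_cases j <;> norm_num

theorem ppd_2_18 : PPD 2 18 19 := by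
  refine ⟨by norm_num, by norm_num, ?_⟩
  intro j h1 h2
  interval_cases j <;> norm_num

theorem ppd_3_6 : PPD 3 6 7 := by
  refine ⟨by norm_num, by norm_num, ?_⟩
  intro j h1 h2
  interval_cases j <;> norm_num

theorem ppd_5_6 : PPD 5 6 7 := by
  refine ⟨by norm_num, by norm_num, ?_⟩
  intro j h1 h2
  interval_cases j <;> norm_num

theorem pkgNum3 : PkgNum3 := by
  intro q n hq hn h26 H
  by_contra hne
  have hodd2 : ¬ Odd 2 := by decide
  by_cases h2 : q = 2 ∧ (n = 4 ∨ n = 6 ∨ n = 10 ∨ n = 12 ∨ n = 18)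
  · obtain ⟨rfl, hn'⟩ := h2
    rcases hn' with rfl | rfl | rfl | rfl | rfl
    · exact hodd2 (H 5 ppd_2_4).1
    · exact h26 ⟨rfl, rfl⟩
    · exact hodd2 (H 11 ppd_2_10).1
    · exact hodd2 (H 13 ppd_2_12).1
    · exact hodd2 (H 19 ppd_2_18).1
  by_cases h3 : q = 3 ∧ (n = 4 ∨ n = 6)
  · obtain ⟨rfl, hn'⟩ := h3
    rcases hn' with rfl | rfl
    · exact hne ⟨rfl, rfl⟩
    · obtain ⟨d, hd⟩ := (H 7 ppd_3_6).2.1
      exact two_pow_ne_six d hd
  by_cases h4 : q = 5 ∧ n = 6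
  · obtain ⟨rfl, rfl⟩ := h4
    obtain ⟨d, hd⟩ := (H 7 ppd_5_6).2.1
    exact two_pow_ne_six d hd
  have h1 : ¬ (n = 2 ∧ ∃ s t : ℕ, t ≤ 1 ∧ q + 1 = 2 ^ s * 3 ^ t) := by
    rintro ⟨hn2, -⟩
    omega
  obtain ⟨p, hp, hdvd, hprim, hbig⟩ := Cfsg.Agent.S3430.result q n hq.two_le (by omega) h1 h2 h3 h4
  have hPPD : PPD q n p := ⟨hp, hdvd, fun j hj1 hj2 => hprim j hj1 hj2⟩
  obtain ⟨-, -, hpn, hsq⟩ := H p hPPD
  rcases hbig with h | h
  · omega
  · exact hsq h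

end Cfsg.Agent.Lib.Helper87.HUPT
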